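import Cfsg.Agent.H821.K547.Defs
import Cfsg.Agent.H601.K4.InvDefs

/-!
# S4547: transport of the rows along isomorphisms, across universes (helper671)

`row_congr`, `extRow_congr`, `baseRow_congr`, `d3_congr`, `xcond_congr`, `gInv3_congr_iff`, `d3_autExt_congr_iff`.
-/

set_option autoImplicit false

namespace Cfsg.Agent.H671.K547

open Cfsg Cfsg.Agent.H601.K4 Cfsg.Agent.H821.K547

universe u v

section

variable {S : Type u} {T : Type v} [Group S] [Group T]

theorem rk_congr {n : ℕ} (e : S ≃* T) (h : Rk n T) : Rk n S := by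
  obtain ⟨f, hf⟩ := h
  exact ⟨f.comp e.toMonoidHom, hf.comp e.surjective⟩

theorem d3_congr [Finite S] (e : S ≃* T) (h : D3 T) : D3 S := by
  have : Fact (Nat.Prime 2) := ⟨Nat.prime_two⟩
  intro Q
  have h1 := h (Q.mapSurjective (f := e.toMonoidHom) e.surjective)
  exact rk_congr ((Q : Subgroup S).equivMapOfInjective e.toMonoidHom e.injective) h1

theorem d3_congr_iff [Finite S] (e : S ≃* T) : D3 T ↔ D3 S := by
  have : Finite T := Finite.of_equiv S e.toEquiv
  exact ⟨d3_congr e, d3_congr e.symm⟩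

theorem xcond_congr (e : S ≃* T) (h : XCond T) : XCond S := by
  obtain ⟨x, n, hx, hn⟩ := h
  refine ⟨e.symm x, n, by rw [MulEquiv.orderOf_eq, hx], fun hd => hn ?_⟩
  have hmap : (Subgroup.normalizer (Subgroup.zpowers (e.symm x) : Set S)).map e.toMonoidHom ≤
      Subgroup.normalizer (Subgroup.zpowers x : Set T) := by
    rintro _ ⟨g, hg, rfl⟩
    rw [Subgroup.mem_normalizer_iff]
    intro y
    have h1 := (Subgroup.mem_normalizer_iff.1 hg) (e.symm y)
    have h2 : ∀ z : T, z ∈ (Subgroup.zpowers x : Set T) ↔ e.symm z ∈ (Subgroup.zpowers (e.symm x) : Set S) := by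
      intro z
      constructor
      · rintro ⟨k, rfl⟩
        exact ⟨k, (map_zpow e.symm x k).symm⟩
      · rintro ⟨k, hk⟩
        refine ⟨k, e.symm.injective ?_⟩
        rw [← hk]
        exact map_zpow e.symm x k
    show y ∈ (Subgroup.zpowers x : Set T) ↔ _ ∈ (Subgroup.zpowers x : Set T)
    rw [h2, h2]
    refine h1.trans ?_
    rw [show e.symm (e.toMonoidHom g * y * (e.toMonoidHom g)⁻¹) = g * e.symm y * g⁻¹ by simp]
    rfl
  have h3 : Nat.card ((Subgroup.normalizer (Subgroup.zpowers (e.symm x) : Set S)).map e.toMonoidHom) =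
      Nat.card (Subgroup.normalizer (Subgroup.zpowers (e.symm x) : Set S)) :=
    (Nat.card_congr (Subgroup.equivMapOfInjective _ e.toMonoidHom e.injective).toEquiv).symm
  rw [← h3] at hd
  exact hd.trans (Subgroup.card_dvd_of_le hmap)

theorem baseRow_congr [Finite S] (e : S ≃* T) (h : BaseRow T) : BaseRow S := by
  rcases h with ⟨h1, h2⟩ | h
  · exact Or.inl ⟨H740.K4.good5_of_equiv e h1, d3_congr e h2⟩
  · exact Or.inr (xcond_congr e h)

theorem congr_pow (e : S ≃* T) (τ : MulAut S) (n : ℕ) (x : T) :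
    ((MulAut.congr e τ) ^ n) x = e ((τ ^ n) (e.symm x)) := by
  rw [← map_pow]
  rfl

theorem congr_app (e : S ≃* T) (τ : MulAut S) (x : S) : (MulAut.congr e τ) (e x) = e (τ x) := by
  show e (τ (e.symm (e x))) = _
  rw [e.symm_apply_apply]

theorem congr_symm (e : S ≃* T) (τ : MulAut S) : MulAut.congr e.symm (MulAut.congr e τ) = τ := by
  ext x
  show e.symm (e (τ (e.symm (e x)))) = τ x
  rw [e.symm_apply_apply, e.symm_apply_apply]

theorem twoPow_congr (e : S ≃* T) {τ : MulAut S} (h : TwoPow τ) : TwoPow (MulAut.congr e τ) := by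
  obtain ⟨k, s, hs⟩ := h
  exact ⟨k, e s, fun x => by rw [congr_pow, hs, map_mul, map_mul, map_inv, e.apply_symm_apply]⟩

theorem isInn_congr (e : S ≃* T) {τ : MulAut S} (h : IsInn τ) : IsInn (MulAut.congr e τ) := by
  obtain ⟨s, hs⟩ := h
  exact ⟨e s, fun x => by
    show e (τ (e.symm x)) = _
    rw [hs, map_mul, map_mul, map_inv, e.apply_symm_apply]⟩

theorem isInn_congr_iff (e : S ≃* T) {τ : MulAut S} : IsInn (MulAut.congr e τ) ↔ IsInn τ :=
  ⟨fun h => by rw [← congr_symm e τ]; exact isInn_congr e.symm h, isInn_congr e⟩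

theorem gInv3_congr (e : S ≃* T) {τ : MulAut S} (h : GInv3 (MulAut.congr e τ)) : GInv3 τ := by
  obtain ⟨χ, h1, h2⟩ := h
  refine ⟨fun i s => χ i (e s), fun i j hij => h1 ?_, fun i => ⟨H740.K4.good_comp e (h2 i).1, fun x => ?_⟩⟩
  · funext t
    have := congrFun hij (e.symm t)
    simpa using this
  · have h3 := (h2 i).2 (e x)
    rw [congr_app] at h3
    exact h3

theorem gInv3_congr_iff (e : S ≃* T) {τ : MulAut S} : GInv3 (MulAut.congr e τ) ↔ GInv3 τ := by
  refine ⟨gInv3_congr e, fun h => gInv3_congr e.symm ?_⟩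
  rwa [congr_symm]

theorem autExt_map (e : S ≃* T) (τ : MulAut S) :
    (AutExt τ).map (MulAut.congr e).toMonoidHom = AutExt (MulAut.congr e τ) := by
  unfold AutExt
  rw [Subgroup.map_sup, MonoidHom.map_zpowers, ← MonoidHom.range_comp]
  have h1 : ((MulAut.congr e).toMonoidHom.comp (MulAut.conj : S →* MulAut S)).range =
      (MulAut.conj : T →* MulAut T).range := by
    have h2 : (MulAut.congr e).toMonoidHom.comp (MulAut.conj : S →* MulAut S) =
        (MulAut.conj : T →* MulAut T).comp e.toMonoidHom := by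
      ext s t
      show e (s * e.symm t * s⁻¹) = e s * t * (e s)⁻¹
      rw [map_mul, map_mul, map_inv, e.apply_symm_apply]
    rw [h2, MonoidHom.range_comp, MonoidHom.range_eq_top.2 e.surjective, ← MonoidHom.range_eq_map]
  rw [h1]
  rfl

/-- the isomorphism of the extensions -/
noncomputable def autExtEquiv (e : S ≃* T) (τ : MulAut S) : AutExt τ ≃* AutExt (MulAut.congr e τ) :=
  ((AutExt τ).equivMapOfInjective (MulAut.congr e).toMonoidHom (MulAut.congr e).injective).trans
    (MulEquiv.subgroupCongr (autExt_map e τ))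

theorem finite_autExt [Finite S] (τ : MulAut S) : Finite (AutExt τ) := by
  have : Finite (MulAut S) := Finite.of_injective (fun f : MulAut S => (f : S → S)) DFunLike.coe_injective
  infer_instance

theorem d3_autExt_congr_iff [Finite S] (e : S ≃* T) (τ : MulAut S) :
    D3 (AutExt (MulAut.congr e τ)) ↔ D3 (AutExt τ) := by
  have := finite_autExt τ
  exact d3_congr_iff (autExtEquiv e τ)

theorem extRow_congr [Finite S] (e : S ≃* T) {τ : MulAut S} (h : ExtRow T (MulAut.congr e τ)) : ExtRow S τ :=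
  (gInv3_congr_iff e).symm.trans (h.trans (d3_autExt_congr_iff e τ))

/-- **Transport of the rows.** -/
theorem row_congr [Finite S] (e : S ≃* T) (h : Row T) : Row S where
  base := baseRow_congr e h.base
  ext τ h2 ho := extRow_congr e (h.ext _ (twoPow_congr e h2) fun hi => ho ((isInn_congr_iff e).1 hi))

end

section

variable {S : Type u} [Group S]

/-- the standard row -/
theorem row_of (h5 : Good5 S) (hd : D3 S) (hi : GoodInv3 S)
    (he : ∀ τ : MulAut S, TwoPow τ → ¬ IsInn τ → D3 (AutExt τ)) : Row S where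
  base := Or.inl ⟨h5, hd⟩
  ext τ h2 ho := ⟨fun _ => he τ h2 ho, fun _ => hi τ h2⟩

/-- the row of a group with few generators but three invariant good characters -/
theorem row_of_xcond (hx : XCond S) (hi : GoodInv3 S)
    (he : ∀ τ : MulAut S, TwoPow τ → ¬ IsInn τ → D3 (AutExt τ)) : Row S where
  base := Or.inr hx
  ext τ h2 ho := ⟨fun _ => he τ h2 ho, fun _ => hi τ h2⟩

/-- the row of a group without outer automorphisms of 2-power order -/
theorem row_of_inner (hb : BaseRow S) (h : ∀ τ : MulAut S, TwoPow τ → IsInn τ) : Row S :=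
  ⟨hb, fun τ h2 ho => absurd (h τ h2) ho⟩

end

end Cfsg.Agent.H671.K547
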