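import Cfsg.Agent.H671.K547.Congr
import Cfsg.Agent.H601.K4.InvLie
import Cfsg.Agent.H601.K4.GoodOdd
import Cfsg.Agent.OddHalf.Known
import Cfsg.Agent.S0252
import Cfsg.Agent.S0254

/-!
# S4547: the rows of all finite simple groups from the rows of the families (helper671)

* `D3Ext S` : the Sylow 2-subgroups of `AutExt τ` need three generators for every outer `τ` of 2-power order;
* `OddInputs`, `EvenInputs`, `SporInputs` : what is needed from the families;
* `row_known` : `Row S` for every known simple group.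
-/

set_option autoImplicit false

namespace Cfsg.Agent.H671.K547

open Cfsg Cfsg.Agent.H601.K4 Cfsg.Agent.H821.K547 Matrix

universe u v

/-- `AutExt τ` has `D3` for all outer automorphisms `τ` of 2-power order modulo inner automorphisms. -/
def D3Ext (S : Type u) [Group S] : Prop := ∀ τ : MulAut S, TwoPow τ → ¬ IsInn τ → D3 (AutExt τ)

theorem d3Ext_congr {S : Type u} {T : Type v} [Group S] [Group T] [Finite S] (e : S ≃* T) (h : D3Ext T) : D3Ext S :=
  fun τ h2 ho => (d3_autExt_congr_iff e τ).1 (h _ (twoPow_congr e h2) fun hi => ho ((isInn_congr_iff e).1 hi))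

/-- what is needed from the groups of Lie type of odd characteristic -/
structure OddInputs : Prop where
  /-- `PSL₂(q)` -/
  psl2 : ∀ {F : Type} [Field F] [Fintype F], Odd (Fintype.card F) → 4 ≤ Fintype.card F →
    Row (ProjectiveSpecialLinearGroup (Fin 2) F)
  x_psl3 : ∀ {F : Type} [Field F] [Fintype F], Odd (Fintype.card F) → XCond (ProjectiveSpecialLinearGroup (Fin 3) F)
  ext_psl3 : ∀ {F : Type} [Field F] [Fintype F], Odd (Fintype.card F) → D3Ext (ProjectiveSpecialLinearGroup (Fin 3) F)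
  x_psu3 : ∀ {F : Type} [Field F] [Fintype F] {q : ℕ}, Fintype.card F = q ^ 2 → Odd q → XCond (PSU 3 F q)
  ext_psu3 : ∀ {F : Type} [Field F] [Fintype F] {q : ℕ}, Fintype.card F = q ^ 2 → Odd q → D3Ext (PSU 3 F q)
  d3_psl : ∀ {F : Type} [Field F] [Fintype F] {n : ℕ}, Odd (Fintype.card F) → 4 ≤ n →
    D3 (ProjectiveSpecialLinearGroup (Fin n) F)
  ext_psl : ∀ {F : Type} [Field F] [Fintype F] {n : ℕ}, Odd (Fintype.card F) → 4 ≤ n →
    D3Ext (ProjectiveSpecialLinearGroup (Fin n) F)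
  d3_psu : ∀ {F : Type} [Field F] [Fintype F] {n q : ℕ}, Fintype.card F = q ^ 2 → Odd q → 4 ≤ n → D3 (PSU n F q)
  ext_psu : ∀ {F : Type} [Field F] [Fintype F] {n q : ℕ}, Fintype.card F = q ^ 2 → Odd q → 4 ≤ n → D3Ext (PSU n F q)
  d3_psp : ∀ {F : Type} [Field F] [Fintype F] {m : ℕ}, Odd (Fintype.card F) → 2 ≤ m → D3 (PSp m F)
  ext_psp : ∀ {F : Type} [Field F] [Fintype F] {m : ℕ}, Odd (Fintype.card F) → 2 ≤ m → D3Ext (PSp m F)
  d3_oddO : ∀ {F : Type} [Field F] [Fintype F] {m : ℕ}, Odd (Fintype.card F) → 3 ≤ m → D3 (POmega F (quadFormOdd m F))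
  ext_oddO : ∀ {F : Type} [Field F] [Fintype F] {m : ℕ}, Odd (Fintype.card F) → 3 ≤ m →
    D3Ext (POmega F (quadFormOdd m F))
  d3_plusO : ∀ {F : Type} [Field F] [Fintype F] {m : ℕ}, Odd (Fintype.card F) → 4 ≤ m →
    D3 (POmega F (quadFormPlus m F))
  ext_plusO : ∀ {F : Type} [Field F] [Fintype F] {m : ℕ}, Odd (Fintype.card F) → 4 ≤ m →
    D3Ext (POmega F (quadFormPlus m F))
  d3_minusO : ∀ {F : Type} [Field F] [Fintype F] {m : ℕ} {a b : F}, Odd (Fintype.card F) → 4 ≤ m →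
    (∀ z₁ z₂ : F, z₁ ^ 2 + a * z₁ * z₂ + b * z₂ ^ 2 = 0 → z₁ = 0 ∧ z₂ = 0) →
      D3 (POmega F (quadFormMinus (m - 1) F a b))
  ext_minusO : ∀ {F : Type} [Field F] [Fintype F] {m : ℕ} {a b : F}, Odd (Fintype.card F) → 4 ≤ m →
    (∀ z₁ z₂ : F, z₁ ^ 2 + a * z₁ * z₂ + b * z₂ ^ 2 = 0 → z₁ = 0 ∧ z₂ = 0) →
      D3Ext (POmega F (quadFormMinus (m - 1) F a b))
  d3_g2 : ∀ {F : Type} [Field F] [Fintype F], Odd (Fintype.card F) → D3 (Lie.chevG2.group F)
  ext_g2 : ∀ {F : Type} [Field F] [Fintype F], Odd (Fintype.card F) → D3Ext (Lie.chevG2.group F)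
  d3_f4 : ∀ {F : Type} [Field F] [Fintype F], Odd (Fintype.card F) → D3 (Lie.chevF4.group F)
  ext_f4 : ∀ {F : Type} [Field F] [Fintype F], Odd (Fintype.card F) → D3Ext (Lie.chevF4.group F)
  d3_e6 : ∀ {F : Type} [Field F] [Fintype F], Odd (Fintype.card F) → D3 (Lie.chevE6.group F)
  ext_e6 : ∀ {F : Type} [Field F] [Fintype F], Odd (Fintype.card F) → D3Ext (Lie.chevE6.group F)
  d3_e7 : ∀ {F : Type} [Field F] [Fintype F], Odd (Fintype.card F) → D3 (Lie.chevE7.group F)
  ext_e7 : ∀ {F : Type} [Field F] [Fintype F], Odd (Fintype.card F) → D3Ext (Lie.chevE7.group F)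
  d3_e8 : ∀ {F : Type} [Field F] [Fintype F], Odd (Fintype.card F) → D3 (Lie.chevE8.group F)
  ext_e8 : ∀ {F : Type} [Field F] [Fintype F], Odd (Fintype.card F) → D3Ext (Lie.chevE8.group F)
  d3_twE6 : ∀ {K : Type} [Field K] [Fintype K] {q : ℕ}, IsPrimePow q → Fintype.card K = q ^ 2 → Odd q →
    D3 (Lie.twistedE6 K q)
  ext_twE6 : ∀ {K : Type} [Field K] [Fintype K] {q : ℕ}, IsPrimePow q → Fintype.card K = q ^ 2 → Odd q →
    D3Ext (Lie.twistedE6 K q)
  d3_twD4 : ∀ {K : Type} [Field K] [Fintype K] {q : ℕ}, IsPrimePow q → Fintype.card K = q ^ 3 → Odd q →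
    D3 (Lie.twistedD4 K q)
  ext_twD4 : ∀ {K : Type} [Field K] [Fintype K] {q : ℕ}, IsPrimePow q → Fintype.card K = q ^ 3 → Odd q →
    D3Ext (Lie.twistedD4 K q)
  ree : ∀ {G : Type} [Group G], Lie.IsoRee G → Row G

/-- what is needed from the groups of Lie type of characteristic two -/
structure EvenInputs : Prop where
  base : ∀ {S : Type u} [Group S] [Finite S] [IsSimpleGroup S], IsLieTypeChar 2 S → BaseRow S
  ext : ∀ {S : Type u} [Group S] [Finite S] [IsSimpleGroup S], IsLieTypeChar 2 S →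
    ∀ τ : MulAut S, TwoPow τ → ¬ IsInn τ → ExtRow S τ

/-- the sporadic rows and the row of the Tits group -/
structure SporInputs : Prop where
  m11 : ∀ {S : Type u} [Group S], Spor.IsoM11 S → Row S
  m12 : ∀ {S : Type u} [Group S], Spor.IsoM12 S → Row S
  m22 : ∀ {S : Type u} [Group S], Spor.IsoM22 S → Row S
  m23 : ∀ {S : Type u} [Group S], Spor.IsoM23 S → Row S
  m24 : ∀ {S : Type u} [Group S], Spor.IsoM24 S → Row S
  j1 : ∀ {S : Type u} [Group S], Spor.IsoJ1 S → Row S
  j2 : ∀ {S : Type u} [Group S], Spor.IsoJ2 S → Row S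
  j3 : ∀ {S : Type u} [Group S], Spor.IsoJ3 S → Row S
  j4 : ∀ {S : Type u} [Group S], Spor.IsoJ4 S → Row S
  co1 : ∀ {S : Type u} [Group S], Spor.IsoCo1 S → Row S
  co2 : ∀ {S : Type u} [Group S], Spor.IsoCo2 S → Row S
  co3 : ∀ {S : Type u} [Group S], Spor.IsoCo3 S → Row S
  mcl : ∀ {S : Type u} [Group S], Spor.IsoMcL S → Row S
  hs : ∀ {S : Type u} [Group S], Spor.IsoHS S → Row S
  suz : ∀ {S : Type u} [Group S], Spor.IsoSuz S → Row S
  he : ∀ {S : Type u} [Group S], Spor.IsoHe S → Row S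
  ru : ∀ {S : Type u} [Group S], Spor.IsoRu S → Row S
  on : ∀ {S : Type u} [Group S], Spor.IsoON S → Row S
  ly : ∀ {S : Type u} [Group S], Spor.IsoLy S → Row S
  fi22 : ∀ {S : Type u} [Group S], Spor.IsoFi22 S → Row S
  fi23 : ∀ {S : Type u} [Group S], Spor.IsoFi23 S → Row S
  fi24 : ∀ {S : Type u} [Group S], Spor.IsoFi24' S → Row S
  hn : ∀ {S : Type u} [Group S], Spor.IsoHN S → Row S
  th : ∀ {S : Type u} [Group S], Spor.IsoTh S → Row S
  b : ∀ {S : Type u} [Group S], Spor.IsoB S → Row S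
  m : ∀ {S : Type u} [Group S], Spor.IsoM S → Row S
  tits : ∀ {S : Type u} [Group S], Lie.IsoTits S → Row S

/-- everything -/
structure Inputs : Prop where
  odd : OddInputs
  even : EvenInputs.{u}
  spor : SporInputs.{u}
  alt : ∀ {n : ℕ}, 7 ≤ n → Row (alternatingGroup (Fin n))

theorem odd_card {F : Type} [Field F] [Fintype F] {p : ℕ} [CharP F p] (hp : p.Prime) (hp2 : p ≠ 2) :
    Odd (Fintype.card F) := by
  have : Fact p.Prime := ⟨hp⟩
  obtain ⟨n, -, hn⟩ := FiniteField.card F p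
  rw [hn]
  exact (hp.odd_of_ne_two hp2).pow

theorem odd_of_pow {a q k : ℕ} (h : Odd a) (he : a = q ^ k) (hk : k ≠ 0) : Odd q := by
  rw [he] at h
  rcases Nat.even_or_odd q with h1 | h1
  · exact absurd (h1.pow_of_ne_zero hk) (Nat.not_even_iff_odd.2 h)
  · exact h1

section

variable {S : Type u} [Group S] [Finite S] [IsSimpleGroup S]

/-- the groups of Lie type of odd characteristic -/
theorem row_odd (R : OddInputs) {p : ℕ} (hp : p.Prime) (hp2 : p ≠ 2) (h : IsLieTypeChar p S) : Row S := by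
  have hgi : GoodInv3 S ∨ ∃ (F : Type) (_ : Field F) (_ : Fintype F), (2 : F) ≠ 0 ∧ 4 ≤ Fintype.card F ∧ CharP F p ∧
      Nonempty (S ≃* ProjectiveSpecialLinearGroup (Fin 2) F) := lie_inv hp hp2 h
  rcases hgi with hi | ⟨F, _, _, -, h4, _, ⟨e⟩⟩
  swap
  · exact row_congr e (R.psl2 (odd_card hp hp2) h4)
  have hg5 : Good5 S ∨ SmallRank S := good_lie_odd hp hp2 h
  rcases hg5 with hg | hs
  swap
  · rcases hs with ⟨hn, h2, h4, e⟩ | ⟨hF, h2, e⟩ | h
    · rename_i F _ _ n
      have hodd : Odd (Fintype.card F) := by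
        rcases Nat.even_or_odd (Fintype.card F) with he | ho
        · exfalso
          obtain ⟨r, hr⟩ := CharP.exists F
          have hrp : Fact r.Prime := ⟨CharP.char_is_prime F r⟩
          obtain ⟨k, hk, hc⟩ := FiniteField.card F r
          have h3 : 2 ∣ r ^ (k : ℕ) := by
            rw [← hc]
            exact he.two_dvd
          have h5 := (Nat.prime_dvd_prime_iff_eq Nat.prime_two hrp.out).1 (Nat.prime_two.dvd_of_dvd_pow h3)
          subst h5
          exact h2 (by exact_mod_cast CharP.cast_eq_zero F 2)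
        · exact ho
      rcases hn with rfl | rfl
      · exact row_congr e (R.psl2 hodd (h4 rfl))
      · exact row_of_xcond (xcond_congr e (R.x_psl3 hodd)) hi (d3Ext_congr e (R.ext_psl3 hodd))
    · rename_i F _ _ q
      have hodd : Odd (Fintype.card F) := by
        rcases Nat.even_or_odd (Fintype.card F) with he | ho
        · exfalso
          obtain ⟨r, hr⟩ := CharP.exists F
          have hrp : Fact r.Prime := ⟨CharP.char_is_prime F r⟩
          obtain ⟨k, hk, hc⟩ := FiniteField.card F r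
          have h3 : 2 ∣ r ^ (k : ℕ) := by
            rw [← hc]
            exact he.two_dvd
          have h5 := (Nat.prime_dvd_prime_iff_eq Nat.prime_two hrp.out).1 (Nat.prime_two.dvd_of_dvd_pow h3)
          subst h5
          exact h2 (by exact_mod_cast CharP.cast_eq_zero F 2)
        · exact ho
      have hq : Odd q := odd_of_pow hodd hF two_ne_zero
      exact row_of_xcond (xcond_congr e (R.x_psu3 hF hq)) hi (d3Ext_congr e (R.ext_psu3 hF hq))
    · obtain ⟨K, _, _, m, hm, hK, ⟨e⟩⟩ := h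
      exact row_congr e (R.ree ⟨K, inferInstance, inferInstance, m, hm, hK, ⟨MulEquiv.refl _⟩⟩)
  have key : ∀ {T : Type} [Group T], (S ≃* T) → D3 T → D3Ext T → Row S := fun e h1 h2 =>
    row_of hg (d3_congr e h1) hi (d3Ext_congr e h2)
  rcases h with h | h | h | h | h | h | h | h | ⟨h, -⟩ | ⟨h, -⟩ | ⟨-, h⟩
  · obtain ⟨F, _, _, _, n, hn, hn4, ⟨e⟩⟩ := h
    have ho : Odd (Fintype.card F) := odd_card hp hp2
    rcases Nat.lt_or_ge n 4 with h4 | h4
    · have h5 : n = 2 ∨ n = 3 := by omega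
      rcases h5 with rfl | rfl
      · exact row_congr e (R.psl2 ho (hn4 rfl))
      · exact row_of_xcond (xcond_congr e (R.x_psl3 ho)) hi (d3Ext_congr e (R.ext_psl3 ho))
    · exact key e (R.d3_psl ho h4) (R.ext_psl ho h4)
  · obtain ⟨F, _, _, _, m, hm, -, ⟨e⟩⟩ := h
    have ho : Odd (Fintype.card F) := odd_card hp hp2
    exact key e (R.d3_psp ho hm) (R.ext_psp ho hm)
  · obtain ⟨F, _, _, _, n, q, hF, hn, -, ⟨e⟩⟩ := h
    have ho : Odd q := odd_of_pow (odd_card (F := F) hp hp2) hF two_ne_zero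
    rcases Nat.lt_or_ge n 4 with h4 | h4
    · obtain rfl : n = 3 := by omega
      exact row_of_xcond (xcond_congr e (R.x_psu3 hF ho)) hi (d3Ext_congr e (R.ext_psu3 hF ho))
    · exact key e (R.d3_psu hF ho h4) (R.ext_psu hF ho h4)
  · obtain ⟨F, _, _, _, m, hm, -, ⟨e⟩⟩ := h
    have ho : Odd (Fintype.card F) := odd_card hp hp2
    exact key e (R.d3_oddO ho hm) (R.ext_oddO ho hm)
  · obtain ⟨F, _, _, _, m, hm, ⟨e⟩⟩ := h
    have ho : Odd (Fintype.card F) := odd_card hp hp2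
    exact key e (R.d3_plusO ho hm) (R.ext_plusO ho hm)
  · obtain ⟨F, _, _, _, m, a, b, hm, hab, ⟨e⟩⟩ := h
    have ho : Odd (Fintype.card F) := odd_card hp hp2
    exact key e (R.d3_minusO ho hm hab) (R.ext_minusO ho hm hab)
  · obtain ⟨F, _, _, _, h⟩ := h
    have ho : Odd (Fintype.card F) := odd_card hp hp2
    rcases h with ⟨-, ⟨e⟩⟩ | ⟨⟨e⟩⟩ | ⟨⟨e⟩⟩ | ⟨⟨e⟩⟩ | ⟨⟨e⟩⟩
    · exact key e (R.d3_g2 ho) (R.ext_g2 ho)
    · exact key e (R.d3_f4 ho) (R.ext_f4 ho)
    · exact key e (R.d3_e6 ho) (R.ext_e6 ho)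
    · exact key e (R.d3_e7 ho) (R.ext_e7 ho)
    · exact key e (R.d3_e8 ho) (R.ext_e8 ho)
  · obtain ⟨K, _, _, _, q, hq, ⟨hK, ⟨e⟩⟩ | ⟨hK, ⟨e⟩⟩⟩ := h
    · have ho : Odd q := odd_of_pow (odd_card (F := K) hp hp2) hK two_ne_zero
      exact key e (R.d3_twE6 hq hK ho) (R.ext_twE6 hq hK ho)
    · have ho : Odd q := odd_of_pow (odd_card (F := K) hp hp2) hK three_ne_zero
      exact key e (R.d3_twD4 hq hK ho) (R.ext_twD4 hq hK ho)
  · exact absurd h hp2
  · exact absurd h hp2
  · obtain ⟨K, _, _, m, hm, hK, ⟨e⟩⟩ := h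
    exact row_congr e (R.ree ⟨K, inferInstance, inferInstance, m, hm, hK, ⟨MulEquiv.refl _⟩⟩)

/-- the groups of Lie type of characteristic two -/
theorem row_even (R : EvenInputs.{u}) (h : IsLieTypeChar 2 S) : Row S := ⟨R.base h, R.ext h⟩

omit [Finite S] [IsSimpleGroup S] in
/-- the sporadic groups -/
theorem row_sporadic (R : SporInputs.{u}) (h : IsSporadicGroup S) : Row S := by
  rcases h with h | h | h | h | h | h | h | h | h | h | h | h | h | h | h | h | h | h |
      h | h | h | h | h | h | h | h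
  · exact R.m11 h
  · exact R.m12 h
  · exact R.m22 h
  · exact R.m23 h
  · exact R.m24 h
  · exact R.j1 h
  · exact R.j2 h
  · exact R.j3 h
  · exact R.j4 h
  · exact R.co1 h
  · exact R.co2 h
  · exact R.co3 h
  · exact R.mcl h
  · exact R.hs h
  · exact R.suz h
  · exact R.he h
  · exact R.ru h
  · exact R.on h
  · exact R.ly h
  · exact R.fi22 h
  · exact R.fi23 h
  · exact R.fi24 h
  · exact R.hn h
  · exact R.th h
  · exact R.b h
  · exact R.m h

/-- **The rows of all known simple groups.** -/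
theorem row_known (R : Inputs.{u}) (hna : ¬ IsMulCommutative S) (hK : IsKnownSimple' S) : Row S := by
  rcases OddHalf.Known.classify hna hK with h | ⟨p, hp, hp2, h⟩ | (h | h) | h
  · obtain ⟨n, hn, ⟨e⟩⟩ := h
    rcases (show n = 5 ∨ n = 6 ∨ 7 ≤ n by omega) with rfl | rfl | h7
    · let _ : Fintype (GaloisField 2 2) := Fintype.ofFinite _
      have hF : Fintype.card (GaloisField 2 2) = 4 := by
        rw [Fintype.card_eq_nat_card, GaloisField.card 2 2 (by norm_num)]; norm_num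
      obtain ⟨f⟩ := S0252.result hF
      exact row_even R.even (Or.inl ⟨GaloisField 2 2, inferInstance, inferInstance, inferInstance, 2, le_rfl,
        fun _ => hF.ge, ⟨e.trans f.symm⟩⟩)
    · let _ : Fintype (GaloisField 3 2) := Fintype.ofFinite _
      have hF : Fintype.card (GaloisField 3 2) = 9 := by
        rw [Fintype.card_eq_nat_card, GaloisField.card 3 2 (by norm_num)]; norm_num
      obtain ⟨f⟩ := S0254.result hF
      exact row_odd R.odd Nat.prime_three (by norm_num) (Or.inl ⟨GaloisField 3 2, inferInstance, inferInstance,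
        inferInstance, 2, le_rfl, fun _ => by rw [hF]; norm_num, ⟨e.trans f.symm⟩⟩)
    · exact row_congr e (R.alt h7)
  · exact row_odd R.odd hp hp2 h
  · exact row_even R.even h
  · exact R.spor.tits h
  · exact row_sporadic R.spor h

end

end Cfsg.Agent.H671.K547
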