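import Cfsg.Agent.H671.K547.Dispatch
import Cfsg.Agent.H151.K547.BaseEven
import Cfsg.Agent.H699.K547.AltRow
import Cfsg.Agent.H839.K547.Ree
import Cfsg.Agent.H393.K547.XRows
import Cfsg.Agent.H984.K547.PslExt
import Cfsg.Agent.H829.K547.Ext3
import Cfsg.Agent.H83.K547.PSL
import Cfsg.Agent.H716.K547.Ext
import Cfsg.Agent.H466.K547.PSU
import Cfsg.Agent.H311.K547.Data
import Cfsg.Agent.H269.K547.PSp
import Cfsg.Agent.H581.K547.PSpExt
import Cfsg.Agent.H358.K547.PO
import Cfsg.Agent.H829.K547.Fin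
import Cfsg.Agent.H168.K547.HexD3
import Cfsg.Agent.H647.K547.E8
import Cfsg.Agent.H196.K547.TwE6
import Cfsg.Agent.H196.K547.Chev
import Cfsg.Agent.H951.K547.Exc
import Cfsg.Agent.H42.K547.EvenFinal
import Cfsg.Agent.H71.QE.Psl3Swap
import Cfsg.Agent.H71.K547.M11
import Cfsg.Agent.H128.K547.M12Row
import Cfsg.Agent.H689.K547.M22Row
import Cfsg.Agent.H805.K547.M23
import Cfsg.Agent.H680.K547.M24
import Cfsg.Agent.H55.K547.J1
import Cfsg.Agent.H832.K547.JTwo
import Cfsg.Agent.H306.K547.J3Row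
import Cfsg.Agent.H753.K547.J4
import Cfsg.Agent.H38.K547.Co1Row
import Cfsg.Agent.H183.K547.Co2
import Cfsg.Agent.H451.K547.Co3
import Cfsg.Agent.H344.K547.McL
import Cfsg.Agent.H587.K547.HS
import Cfsg.Agent.H834.K547.SuzFin
import Cfsg.Agent.H825.K547.He
import Cfsg.Agent.H42.K547.RuRow
import Cfsg.Agent.H845.K547.ON
import Cfsg.Agent.H281.K547.FiTwoFin
import Cfsg.Agent.H559.K547.Fi23
import Cfsg.Agent.H813.K547.FiTFRow
import Cfsg.Agent.H859.K547.HNRow
import Cfsg.Agent.H869.K547.Th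
import Cfsg.Agent.H5.K547.RowBFin
import Cfsg.Agent.H569.K547.MRow
import Cfsg.Agent.H189.K547.Tits

/-!
# S4547: the finished rows (helper671)

* `oddInputs`, `evenInputs` : the groups of Lie type;
* `sporInputs_of`, `inputs_of` : everything, given the row of `Ly`.
-/

set_option autoImplicit false

namespace Cfsg.Agent.H671.K547

open Cfsg Cfsg.Agent.H601.K4 Cfsg.Agent.H821.K547 Matrix

universe u

theorem two_ne_of_odd {F : Type} [Field F] [Fintype F] (h : Odd (Fintype.card F)) : (2 : F) ≠ 0 :=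
  H358.K547.two_ne_of_odd h

theorem two_ne_of_sq {F : Type} [Field F] [Fintype F] {q : ℕ} (hF : Fintype.card F = q ^ 2) (h : Odd q) :
    (2 : F) ≠ 0 := two_ne_of_odd (by rw [hF]; exact h.pow)

theorem row_psl2 {F : Type} [Field F] [Fintype F] (ho : Odd (Fintype.card F)) (h4 : 4 ≤ Fintype.card F) :
    Row (ProjectiveSpecialLinearGroup (Fin 2) F) :=
  H984.K547.PslExt.row_psl2 (by rwa [Nat.card_eq_fintype_card]) (by rw [Nat.card_eq_fintype_card]; omega)

theorem d3_psl {F : Type} [Field F] [Fintype F] {n : ℕ} (ho : Odd (Fintype.card F)) (hn : 4 ≤ n) :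
    D3 (ProjectiveSpecialLinearGroup (Fin n) F) :=
  H83.K547.d3_psl hn F (two_ne_of_odd ho)

/-- **the groups of Lie type of odd characteristic** -/
theorem oddInputs : OddInputs where
  psl2 := row_psl2
  x_psl3 hF := H393.K547.xcond_psl3 (two_ne_of_odd hF)
  ext_psl3 hF τ h2 ho := H829.K547.ext_psl3 hF τ h2 ho
  x_psu3 hF hq := H393.K547.xcond_psu3 hF (two_ne_of_sq hF hq)
  ext_psu3 hF hq τ h2 ho := H829.K547.ext_psu3 hF hq τ h2 ho
  d3_psl := d3_psl
  ext_psl ho hn τ h1 h2 := H716.K547.ext_psl_of ho hn (fun _ => d3_psl ho hn) τ h1 h2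
  d3_psu := H466.K547.d3_PSU
  ext_psu hF hq hn τ h2 ho := H311.K547.d3_ext_psu hF hq hn τ h2 ho
  d3_psp hF hm := H269.K547.d3_psp hF _ hm
  ext_psp hF hm τ h2 ho := H581.K547.d3_ext_psp hF hm τ h2 ho
  d3_oddO hF hm := H358.K547.d3_pOmegaOdd hF hm
  ext_oddO hF hm τ h1 h2 := H829.K547.ext_odd_main hF hm τ h1 h2
  d3_plusO hF hm := H358.K547.d3_pOmegaPlus hF hm
  ext_plusO hF hm τ h1 h2 := H829.K547.ext_plus_main hF hm τ h1 h2
  d3_minusO hF hm hab := H358.K547.d3_pOmegaMinus hF hm hab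
  ext_minusO hF hm hab τ h1 h2 := H829.K547.ext_minus_main hF hm hab τ h1 h2
  d3_g2 hF := H168.K547.d3_g2 hF (MulEquiv.refl _)
  ext_g2 hF := H951.K547.extD3_g2 hF (MulEquiv.refl _)
  d3_f4 hF := H196.K547.d3_F4 hF
  ext_f4 hF := H951.K547.extD3_f4 hF (MulEquiv.refl _)
  d3_e6 hF := H196.K547.d3_E6 hF
  ext_e6 hF := H951.K547.extD3_e6 hF (MulEquiv.refl _)
  d3_e7 hF := H196.K547.d3_E7 hF
  ext_e7 hF := H951.K547.extD3_e7 hF (MulEquiv.refl _)
  d3_e8 hF := H647.K547.d3_E8 hF (MulEquiv.refl _)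
  ext_e8 hF := H951.K547.extD3_e8 hF (MulEquiv.refl _)
  d3_twE6 hq hK ho := H196.K547.d3_twE6 hq hK ho
  ext_twE6 hq hK ho := H951.K547.extD3_twE6 hq hK ho (MulEquiv.refl _)
  d3_twD4 _ hK ho := H168.K547.d3_3d4 hK ho (MulEquiv.refl _)
  ext_twD4 hq hK ho := H951.K547.extD3_twD4 hq hK ho (MulEquiv.refl _)
  ree h := H839.K547.row_ree h

/-- **the groups of Lie type of characteristic two** -/
theorem evenInputs : EvenInputs.{u} where
  base h := H151.K547.base_lie_two h
  ext h := H42.K547.Even.ext_two_of (fun h4 _ _ hN hs => H71.QE.psl3_swap h4 hN hs) h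

/-- **the sporadic groups**, given the row of `Ly` -/
theorem sporInputs_of (ly : ∀ {S : Type u} [Group S], Spor.IsoLy S → Row S) : SporInputs.{u} where
  m11 h := H71.K547.row_m11 h
  m12 h := H128.K547.M12.row h
  m22 h := H689.K547.M22.row h
  m23 h := H805.K547.row_m23 h
  m24 h := H680.K547.M24.row h
  j1 h := H55.K547.row h
  j2 h := H832.K547.JTwo.row h
  j3 h := H306.K547.JThree.row h
  j4 h := H753.K547.J4.row h
  co1 h := H38.K547.Co1.row h
  co2 h := H183.K547.Co2.row h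
  co3 h := H451.K547.Co3.row h
  mcl h := H344.K547.McL.row h
  hs h := H587.K547.row h
  suz h := H834.K547.row h
  he h := H825.K547.He.row h
  ru h := H42.K547.Ru.row h
  on h := H845.K547.ON.row h
  ly := ly
  fi22 h := H281.K547.row_fi22 h
  fi23 h := H559.K547.row h
  fi24 h := H813.K547.FiTF.row h
  hn h := H859.K547.HN.row h
  th h := H869.K547.row_th h
  b h := H5.K547.rowB_fin h
  m h := H569.K547.row_m h
  tits h := H189.K547.Tits.row h

/-- **all rows**, given the row of `Ly` -/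
theorem inputs_of (ly : ∀ {S : Type u} [Group S], Spor.IsoLy S → Row S) : Inputs.{u} where
  odd := oddInputs
  even := evenInputs
  spor := sporInputs_of ly
  alt h := H699.K547.row_alternating h

end Cfsg.Agent.H671.K547
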